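import Mathlib.RingTheory.SimpleRing.Basic
import Mathlib.RingTheory.SimpleModule.Isotypic
import Mathlib.RingTheory.SimpleModule.Rank
import Mathlib.RingTheory.Jacobson.Ideal
import Mathlib.RingTheory.Nakayama
import Mathlib.RingTheory.Length
import Mathlib.Algebra.Module.Torsion.Basic
import Mathlib.RingTheory.SimpleModule.WedderburnArtin
import Mathlib.RingTheory.Artinian.Module

/-!
Finitely generated projective modules over a ring modulo its Jacobson radical.
-/

universe u v

namespace Groth.Agent.StrLoc95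

variable {A : Type u} [Ring A] {P Q M : Type v} [AddCommGroup P] [Module A P] [AddCommGroup Q] [Module A Q]
  [AddCommGroup M] [Module A M]

abbrev Rb (A : Type u) [Ring A] := A ⧸ Ring.jacobson A

abbrev JP (A : Type u) [Ring A] (P : Type v) [AddCommGroup P] [Module A P] : Submodule A P :=
  (Ring.jacobson A) • ⊤

theorem map_JP_le (f : P →ₗ[A] Q) : (JP A P).map f ≤ JP A Q := by
  rw [JP, Submodule.map_smul'']
  exact Submodule.smul_mono le_rfl le_top

/-- Reduction of a linear map modulo the radical. -/
def bar (f : P →ₗ[A] Q) : (P ⧸ JP A P) →ₗ[Rb A] (Q ⧸ JP A Q) where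
  toFun := Submodule.mapQ (JP A P) (JP A Q) f fun x hx => map_JP_le f ⟨x, hx, rfl⟩
  map_add' := map_add _
  map_smul' r x := by
    obtain ⟨a, rfl⟩ := Ideal.Quotient.mk_surjective r
    obtain ⟨x, rfl⟩ := Submodule.Quotient.mk_surjective _ x
    simp only [RingHom.id_apply, Module.Quotient.mk_smul_mk, Submodule.mapQ_apply, map_smul]

@[simp] theorem bar_mk (f : P →ₗ[A] Q) (x : P) :
    bar f (Submodule.Quotient.mk x) = Submodule.Quotient.mk (f x) := rfl

theorem bar_comp (f : P →ₗ[A] Q) (g : Q →ₗ[A] M) : bar (g ∘ₗ f) = bar g ∘ₗ bar f :=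
  LinearMap.ext fun x => by obtain ⟨x, rfl⟩ := Submodule.Quotient.mk_surjective _ x; rfl

theorem bar_mul (f g : Module.End A P) : bar (f * g) = bar f * bar g := bar_comp g f

theorem bar_one : bar (1 : Module.End A P) = 1 :=
  LinearMap.ext fun x => by obtain ⟨x, rfl⟩ := Submodule.Quotient.mk_surjective _ x; rfl

theorem bar_add (f g : P →ₗ[A] Q) : bar (f + g) = bar f + bar g :=
  LinearMap.ext fun x => by obtain ⟨x, rfl⟩ := Submodule.Quotient.mk_surjective _ x; rfl

theorem bar_zero : bar (0 : P →ₗ[A] Q) = 0 :=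
  LinearMap.ext fun x => by obtain ⟨x, rfl⟩ := Submodule.Quotient.mk_surjective _ x; rfl

theorem bar_eq_zero_iff (f : P →ₗ[A] Q) : bar f = 0 ↔ ∀ x, f x ∈ JP A Q := by
  refine ⟨fun h x => ?_, fun h => LinearMap.ext fun x => ?_⟩
  · have := LinearMap.congr_fun h (Submodule.Quotient.mk x)
    simpa using this
  · obtain ⟨x, rfl⟩ := Submodule.Quotient.mk_surjective _ x
    simpa using h x

theorem bar_surjective [Module.Projective A P] (φ : (P ⧸ JP A P) →ₗ[Rb A] (Q ⧸ JP A Q)) :
    ∃ f : P →ₗ[A] Q, bar f = φ := by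
  let φA : P →ₗ[A] (Q ⧸ JP A Q) :=
    { toFun := fun x => φ (Submodule.Quotient.mk x)
      map_add' := fun x y => by rw [Submodule.Quotient.mk_add, map_add]
      map_smul' := fun a x => by
        rw [← Module.Quotient.mk_smul_mk, map_smul, RingHom.id_apply]
        obtain ⟨y, hy⟩ := Submodule.Quotient.mk_surjective _ (φ (Submodule.Quotient.mk x))
        rw [← hy, Module.Quotient.mk_smul_mk, Submodule.Quotient.mk_smul] }
  obtain ⟨f, hf⟩ := Module.projective_lifting_property (JP A Q).mkQ φA (Submodule.mkQ_surjective _)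
  refine ⟨f, LinearMap.ext fun x => ?_⟩
  obtain ⟨x, rfl⟩ := Submodule.Quotient.mk_surjective _ x
  exact LinearMap.congr_fun hf x

theorem surjective_of_bar [Module.Finite A Q] (f : P →ₗ[A] Q) (h : Function.Surjective (bar f)) :
    Function.Surjective f := by
  rw [← LinearMap.range_eq_top]
  have hfin : Module.Finite A (Q ⧸ LinearMap.range f) := inferInstance
  have h0 : (⊤ : Submodule A (Q ⧸ LinearMap.range f)) = ⊥ := by
    refine Submodule.FG.eq_bot_of_le_jacobson_smul Module.Finite.fg_top fun z _ => ?_
    obtain ⟨q, rfl⟩ := Submodule.Quotient.mk_surjective _ z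
    obtain ⟨y, hy⟩ := h (Submodule.Quotient.mk q)
    obtain ⟨x, rfl⟩ := Submodule.Quotient.mk_surjective _ y
    rw [bar_mk, Submodule.Quotient.eq] at hy
    have h1 := map_JP_le (LinearMap.range f).mkQ ⟨_, neg_mem hy, rfl⟩
    simpa [(Submodule.Quotient.mk_eq_zero _).mpr (LinearMap.mem_range_self f x)] using h1
  exact eq_top_iff.mpr fun q _ => by
    have : Submodule.Quotient.mk q ∈ (⊥ : Submodule A (Q ⧸ LinearMap.range f)) := h0 ▸ Submodule.mem_top
    simpa using this

theorem bijective_of_bar_one [Module.Finite A P] [Module.Projective A P] (f : Module.End A P)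
    (h : bar f = 1) : Function.Bijective f := by
  have hsurj := surjective_of_bar f (h.symm ▸ Function.surjective_id)
  obtain ⟨s, hs⟩ := Module.projective_lifting_property f LinearMap.id hsurj
  let π : P →ₗ[A] LinearMap.ker f := (LinearMap.id - s.comp f).codRestrict _ fun x => by
    have := LinearMap.congr_fun hs (f x)
    simp at this
    simp [this]
  have hπ : ∀ x ∈ LinearMap.ker f, (π x : P) = x := fun x hx => by simp [π, LinearMap.mem_ker.mp hx]
  have hfin : Module.Finite A (LinearMap.ker f) := Module.Finite.of_surjective π fun x => ⟨x, Subtype.ext (hπ x x.2)⟩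
  have h0 : (⊤ : Submodule A (LinearMap.ker f)) = ⊥ := by
    refine Submodule.FG.eq_bot_of_le_jacobson_smul Module.Finite.fg_top fun x _ => ?_
    have h1 : (x : P) ∈ JP A P := by
      have := (bar_eq_zero_iff (f - 1)).mp ?_ (x : P)
      · simpa [LinearMap.mem_ker.mp x.2] using this
      · exact LinearMap.ext fun y => by
          obtain ⟨y, rfl⟩ := Submodule.Quotient.mk_surjective _ y
          have := LinearMap.congr_fun h (Submodule.Quotient.mk y)
          simpa [sub_eq_zero] using this
    have h2 := map_JP_le π ⟨_, h1, rfl⟩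
    rwa [show π x = x from Subtype.ext (hπ x x.2)] at h2
  exact ⟨LinearMap.ker_eq_bot.mp (Submodule.subsingleton_iff_eq_bot.mp
    ((Submodule.subsingleton_iff A).mp (subsingleton_of_bot_eq_top h0.symm))), hsurj⟩

/-- The radical of `End P`, described through units. -/
theorem bar_eq_zero_iff_units [IsSemisimpleRing (Rb A)] [Module.Finite A P] [Module.Projective A P]
    (f : Module.End A P) : bar f = 0 ↔ ∀ g : Module.End A P, IsUnit (1 + g * f) := by
  refine ⟨fun h g => ?_, fun h => ?_⟩
  · rw [Module.End.isUnit_iff]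
    exact bijective_of_bar_one _ (by rw [bar_add, bar_mul, h, mul_zero, add_zero, bar_one])
  · by_contra hne
    obtain ⟨C, hC⟩ := exists_isCompl (LinearMap.ker (bar f))
    obtain ⟨D, hD⟩ := exists_isCompl (LinearMap.range (bar f))
    let r : C →ₗ[Rb A] LinearMap.range (bar f) := (bar f).rangeRestrict.comp C.subtype
    have hr : Function.Bijective r := by
      refine ⟨(injective_iff_map_eq_zero r).mpr fun c hc => Subtype.ext ?_, fun y => ?_⟩
      · exact Submodule.disjoint_def.mp hC.disjoint _ (congrArg Subtype.val hc) c.2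
      · obtain ⟨x, hx⟩ := y.2
        obtain ⟨k, hk, c, hc, rfl⟩ := Submodule.mem_sup.mp (hC.sup_eq_top.ge (Submodule.mem_top (x := x)))
        refine ⟨⟨c, hc⟩, Subtype.ext ?_⟩
        rw [map_add, LinearMap.mem_ker.mp hk, zero_add] at hx
        exact hx
    let er := LinearEquiv.ofBijective r hr
    let φ : Module.End (Rb A) (P ⧸ JP A P) :=
      -(C.subtype ∘ₗ er.symm.toLinearMap ∘ₗ Submodule.projectionOnto _ D hD)
    obtain ⟨g, hg⟩ := bar_surjective φ
    have hu := (Module.End.isUnit_iff _).mp (h g)
    obtain ⟨c, hc, hc0⟩ : ∃ c ∈ C, c ≠ 0 := by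
      refine (Submodule.ne_bot_iff C).mp fun hC0 => hne (LinearMap.ker_eq_top.mp ?_)
      simpa [hC0] using hC.sup_eq_top
    obtain ⟨p, rfl⟩ := Submodule.Quotient.mk_surjective _ c
    have hb : bar (1 + g * f) (Submodule.Quotient.mk p) = 0 := by
      rw [bar_add, bar_one, bar_mul, hg, LinearMap.add_apply, Module.End.one_apply, Module.End.mul_apply]
      have : Submodule.projectionOnto _ D hD (bar f (Submodule.Quotient.mk p)) = er ⟨_, hc⟩ :=
        Submodule.projectionOnto_apply_left hD ⟨_, ⟨Submodule.Quotient.mk p, rfl⟩⟩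
      simp only [φ, LinearMap.neg_apply, LinearMap.comp_apply, LinearEquiv.coe_coe, this,
        LinearEquiv.symm_apply_apply, Submodule.subtype_apply, add_neg_cancel]
    obtain ⟨gu, hgu⟩ := (h g).exists_left_inv
    have := congrArg bar hgu
    rw [bar_mul, bar_one] at this
    have h2 := LinearMap.congr_fun this (Submodule.Quotient.mk p)
    rw [Module.End.mul_apply, hb, map_zero] at h2
    exact hc0 h2.symm

/-- Orthogonal nonzero idempotent endomorphisms are at most as many as the length. -/
theorem card_le_length {R : Type u} [Ring R] {N : Type v} [AddCommGroup N] [Module R N] {a : ℕ}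
    (e : Fin a → Module.End R N) (horth : ∀ i j, e i * e j = if i = j then e i else 0) (hne : ∀ i, e i ≠ 0) :
    (a : ℕ∞) ≤ Module.length R N := by
  classical
  let S : (∀ i, LinearMap.range (e i)) →ₗ[R] N := ∑ i, (LinearMap.range (e i)).subtype.comp (LinearMap.proj i)
  have hfix : ∀ (i : Fin a) (y : LinearMap.range (e i)) (j), e j y = if j = i then (y : N) else 0 := by
    intro i y j
    obtain ⟨x, hx⟩ := y.2
    rw [← hx, ← Module.End.mul_apply, horth]
    split_ifs with hji <;> simp [hji]
  have hS : Function.Injective S := by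
    refine (injective_iff_map_eq_zero S).mpr fun y hy => funext fun j => Subtype.ext ?_
    have := congrArg (e j) hy
    simpa [S, hfix] using this
  refine le_trans ?_ (Module.length_le_of_injective S hS)
  rw [Module.length_pi_of_fintype]
  calc (a : ℕ∞) = ∑ _i : Fin a, 1 := by simp
    _ ≤ _ := Finset.sum_le_sum fun i _ => by
      have : Nontrivial (LinearMap.range (e i)) :=
        (Submodule.nontrivial_iff_ne_bot).mpr fun h => hne i (LinearMap.range_eq_bot.mp h)
      exact Order.one_le_iff_pos.mpr Module.length_pos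

theorem le_of_ringEquiv [IsSemisimpleRing (Rb A)] {S : Type*} [AddCommGroup S] [Module (Rb A) S] [IsSimpleModule (Rb A) S]
    [Module.Finite A P] [Module.Projective A P] [Module.Finite A Q] [Module.Projective A Q]
    (e : Module.End A Q ≃+* Module.End A P) {a b : ℕ} (eQ : (Q ⧸ JP A Q) ≃ₗ[Rb A] (Fin a → S))
    (eP : (P ⧸ JP A P) ≃ₗ[Rb A] (Fin b → S)) : a ≤ b := by
  classical
  let ε : Fin a → Module.End (Rb A) (Q ⧸ JP A Q) := fun i =>
    eQ.symm.toLinearMap ∘ₗ (LinearMap.single (Rb A) (fun _ => S) i ∘ₗ LinearMap.proj i) ∘ₗ eQ.toLinearMap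
  choose f hf using fun i => bar_surjective (ε i)
  have htr : ∀ x : Module.End A Q, bar x = 0 ↔ bar (e x) = 0 := by
    intro x
    rw [bar_eq_zero_iff_units, bar_eq_zero_iff_units, e.surjective.forall]
    refine forall_congr' fun g => ?_
    rw [← isUnit_map_iff e, map_add, map_one, map_mul]
  have horth : ∀ i j, bar (e (f i)) * bar (e (f j)) = if i = j then bar (e (f i)) else 0 := by
    intro i j
    have h0 : bar (f i * f j) = if i = j then bar (f i) else 0 := by
      rw [bar_mul, hf, hf]
      refine LinearMap.ext fun x => eQ.injective ?_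
      rcases eq_or_ne i j with rfl | hij
      · simp [ε]
      · simp [ε, hij]
    rw [← bar_mul, ← map_mul]
    split_ifs with hij
    · subst hij
      rw [if_pos rfl] at h0
      have h1 : bar (f i * f i + -f i) = 0 := by
        have h2 := bar_add (f i * f i + -f i) (f i)
        rw [neg_add_cancel_right, h0] at h2
        exact right_eq_add.mp h2 |>.symm |> Eq.symm
      have h2 := bar_add (e (f i * f i) + -e (f i)) (e (f i))
      rw [neg_add_cancel_right, ← map_neg, ← map_add, (htr _).mp h1, zero_add] at h2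
      exact h2
    · rw [if_neg hij] at h0
      exact (htr _).mp h0
  have hne : ∀ i, bar (e (f i)) ≠ 0 := fun i h => by
    have h1 := (htr _).mpr h
    rw [hf] at h1
    have : Nontrivial S := IsSimpleModule.nontrivial (Rb A) S
    obtain ⟨s, hs⟩ := exists_ne (0 : S)
    have h2 := congrArg eQ (LinearMap.congr_fun h1 (eQ.symm (Pi.single i s)))
    have h3 := congrFun h2 i
    simp [ε] at h3
    exact hs h3
  have := card_le_length (fun i => bar (e (f i))) horth hne
  rw [eP.length_eq, Module.length_pi] at this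
  simp only [Module.length_eq_one] at this
  simpa using this

/-- Over a strongly local ring isomorphic endomorphism rings force isomorphic modules. -/
theorem nonempty_linearEquiv [IsSimpleRing (Rb A)] [IsArtinianRing (Rb A)]
    [Module.Finite A P] [Module.Projective A P] [Module.Finite A Q] [Module.Projective A Q]
    (e : Module.End A P ≃+* Module.End A Q) : Nonempty (P ≃ₗ[A] Q) := by
  obtain ⟨S, hS⟩ := IsSemisimpleModule.exists_simple_submodule (Rb A) (Rb A)
  have htype : ∀ (N : Type v) [AddCommGroup N] [Module (Rb A) N], IsIsotypicOfType (Rb A) N S := by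
    intro N _ _ m hm
    let eS : S ≃ₗ[Rb A] LinearMap.range (LinearMap.inr (Rb A) N S) := LinearEquiv.ofInjective _ LinearMap.inr_injective
    let em : m ≃ₗ[Rb A] m.map (LinearMap.inl (Rb A) N S) :=
      Submodule.equivMapOfInjective _ LinearMap.inl_injective m
    have : IsSimpleModule (Rb A) (m.map (LinearMap.inl (Rb A) N S)) := IsSimpleModule.congr em.symm
    have : IsSimpleModule (Rb A) (LinearMap.range (LinearMap.inr (Rb A) N S)) := IsSimpleModule.congr eS.symm
    obtain ⟨e0⟩ := IsSimpleRing.isIsotypic (Rb A) (N × S) (LinearMap.range (LinearMap.inr (Rb A) N S))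
      (m.map (LinearMap.inl (Rb A) N S))
    exact ⟨em.trans (e0.trans eS.symm)⟩
  have hfin : ∀ (N : Type v) [AddCommGroup N] [Module A N] [Module.Finite A N], Module.Finite (Rb A) (N ⧸ JP A N) := by
    intro N _ _ _
    classical
    obtain ⟨s, hs⟩ := Module.Finite.fg_top (R := A) (M := N)
    refine ⟨⟨s.image Submodule.Quotient.mk, eq_top_iff.mpr fun x _ => ?_⟩⟩
    obtain ⟨x, rfl⟩ := Submodule.Quotient.mk_surjective _ x
    have hx : x ∈ Submodule.span A (s : Set N) := hs ▸ Submodule.mem_top
    induction hx using Submodule.span_induction with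
    | mem y hy => exact Submodule.subset_span (by simpa using ⟨y, hy, rfl⟩)
    | zero => exact zero_mem _
    | add y z _ _ hy hz => rw [Submodule.Quotient.mk_add]; exact add_mem (hy trivial) (hz trivial)
    | smul r y _ hy => rw [← Module.Quotient.mk_smul_mk]; exact Submodule.smul_mem _ _ (hy trivial)
  have := hfin P
  have := hfin Q
  obtain ⟨a, ⟨eP⟩⟩ := (htype (P ⧸ JP A P)).linearEquiv_fun
  obtain ⟨b, ⟨eQ⟩⟩ := (htype (Q ⧸ JP A Q)).linearEquiv_fun
  obtain rfl : a = b := le_antisymm (le_of_ringEquiv e eP eQ) (le_of_ringEquiv e.symm eQ eP)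
  obtain ⟨f, hf⟩ := bar_surjective (eP.trans eQ.symm).toLinearMap
  obtain ⟨g, hg⟩ := bar_surjective (eQ.trans eP.symm).toLinearMap
  have hgf : bar (g ∘ₗ f) = 1 := by
    rw [bar_comp, hf, hg]
    exact LinearMap.ext fun x => by simp
  exact ⟨LinearEquiv.ofBijective f ⟨(bijective_of_bar_one _ hgf).1.of_comp (f := g),
    surjective_of_bar f (by rw [hf]; exact (eP.trans eQ.symm).surjective)⟩⟩

end Groth.Agent.StrLoc95
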